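import Groth.Agent.L10.FMAdj.Basic
import Groth.Agent.L10.ShriekLoc.Gor
import Groth.Agent.L10.RelCan.Basic
import Groth.Agent.L29.RelPC.SrcPerfect
import Groth.Agent.L29.BCAdj.HomFlat
import Groth.Agent.S3618
import Groth.Agent.S3619
import Groth.Agent.Lead.FlatPerfectCx
import Groth.Agent.Lead.RelPCTest
import Groth.Agent.S1766

/-!
Adjoints of Fourier–Mukai functors through relative dualizing complexes of Gorenstein morphisms.
-/

set_option autoImplicit false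
set_option linter.style.haveILetI false
set_option backward.defeqAttrib.useBackward true
set_option backward.isDefEq.respectTransparency false
set_option backward.isDefEq.respectTransparency.types false

universe u

open CategoryTheory CategoryTheory.Limits AlgebraicGeometry

attribute [local instance] HasDerivedCategory.standard

noncomputable section

namespace Groth.L29.FMAdj

open Groth.L00 Groth.L29.BC Groth.L29.DC

/-- the relative dualizing complex of a proper flat Gorenstein morphism is perfect -/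
theorem isPerfect_dualizing {X S : Scheme.{u}} [IsNoetherian S] (a : X ⟶ S) [IsProper a] [Flat a]
    (hG : Dual3.IsGorensteinMor a) [DCoh.HasRpush a] {hR : DCoh.RpushPreservesQCoh a}
    {R : DCoh.DQCoh S ⥤ DCoh.DQCoh X} (adj : DCoh.RpushQ a hR ⊣ R)
    (O : DCoh.DQCoh S) (hO : Nonempty (O.obj ≅ DCoh.inD S (Coh.structureModule S))) :
    DCoh.IsPerfect (R.obj O).obj := by
  haveI : ∀ (U V : Scheme.{u}) (j : U ⟶ V) [IsOpenImmersion j],
      PreservesFiniteLimits (Scheme.Modules.restrictFunctor j) := fun U V j _ => inferInstance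
  let c : DEt.Compactification a := ⟨X, 𝟙 X, a, inferInstance, inferInstance, Category.id_comp a⟩
  refine EvalMain.isPerfect_of_local fun x => ?_
  obtain ⟨U, hx, hU⟩ := Groth.L10.ShriekLoc.exists_invertible c adj O hO x (hG x)
  obtain ⟨e⟩ := Groth.L10.RelCan.nonempty_restrictD_id X (R.obj O).obj
  refine ⟨U, hx, isPerfect_of_iso ((DCoh.restrictD U.ι).mapIso e) (EvalMain.isPerfect_of_local fun y => ?_)⟩
  obtain ⟨V, n, hy, ⟨i⟩⟩ := hU y
  exact ⟨V, hy, isPerfect_of_iso i.symm (perfect_shift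
    (isPerfect_of_iso ((DerivedCategory.singleFunctorIsoCompQ _ 0).app _).symm AdjTensor.isPerfect_O0) n)⟩

/-- base change of the relative dualizing complex by a flat morphism -/
theorem nonempty_dualizing_baseChange {X S X' S' : Scheme.{u}} {a : X ⟶ S} {g : S' ⟶ S} {a' : X' ⟶ S'}
    {g' : X' ⟶ X} (hsq : IsPullback g' a' a g) [IsNoetherian X] [IsNoetherian S] [IsNoetherian S'] [IsProper a]
    [Flat a] [Flat g] [QuasiCompact g] [QuasiSeparated g]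
    [DCoh.HasRpush a] [DCoh.HasRpush a'] [DCoh.HasLpull g']
    {hR : DCoh.RpushPreservesQCoh a} {hR' : DCoh.RpushPreservesQCoh a'}
    {R : DCoh.DQCoh S ⥤ DCoh.DQCoh X} (adj : DCoh.RpushQ a hR ⊣ R)
    {R' : DCoh.DQCoh S' ⥤ DCoh.DQCoh X'} (adj' : DCoh.RpushQ a' hR' ⊣ R')
    (O : DCoh.DQCoh S) (hO : Nonempty (O.obj ≅ DCoh.inD S (Coh.structureModule S)))
    (O' : DCoh.DQCoh S') (hO' : Nonempty (O'.obj ≅ DCoh.inD S' (Coh.structureModule S'))) :
    Nonempty ((R'.obj O').obj ≅ (DCoh.Lpull g').obj (R.obj O).obj) := by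
  haveI := fun {A B : Scheme.{u}} (h : A ⟶ B) => RpushQC.hasRpush h
  haveI := fun {A B : Scheme.{u}} (h : A ⟶ B) => KFlat.hasLpull h
  haveI : IsProper a' := MorphismProperty.of_isPullback hsq inferInstance
  haveI : QuasiCompact g' := MorphismProperty.of_isPullback hsq.flip inferInstance
  haveI : QuasiSeparated g' := MorphismProperty.of_isPullback hsq.flip inferInstance
  haveI : CompactSpace X' := QuasiCompact.compactSpace_of_compactSpace a'
  haveI : QuasiSeparatedSpace X' := quasiSeparatedSpace_of_quasiSeparated a'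
  haveI : LocallyOfFinitePresentation a := LocallyOfFinitePresentation.iff_locallyOfFiniteType.mpr inferInstance
  have hR1 : ∀ {A B : Scheme.{u}} (j : A ⟶ B) [QuasiCompact j] [QuasiSeparated j], DCoh.RpushPreservesQCoh j :=
    fun j _ _ K hK => RpushQC.isQCohD_Rpush j K hK
  have hL : ∀ {A B : Scheme.{u}} (j : A ⟶ B), Dual3.LpullPreservesQCoh j := fun j K hK => isQCohD_Lpull j hK
  obtain ⟨e, hξ, hbc⟩ := Groth.Agent.S3618.result X S X' S' a g a' g' hsq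
    Groth.L29.RelPC.perfect_of_flat hR hR' (hR1 g) (hR1 g') R R' adj adj' (hL g) (hL g')
    (BCAdj.adjQ g (hR1 g) (hL g)) (BCAdj.adjQ g' (hR1 g') (hL g'))
  obtain ⟨eO⟩ := hO
  obtain ⟨eO'⟩ := hO'
  obtain ⟨l⟩ := BCAdj.nonempty_Lpull_OD g
  let i : (Dual3.LpullQ g (hL g)).obj O ≅ O' :=
    ObjectProperty.isoMk _ ((DCoh.Lpull g).mapIso eO ≪≫ l ≪≫ eO'.symm)
  haveI := hbc O
  exact ⟨(DCoh.IsQCohD (X := X')).ι.mapIso (R'.mapIso i.symm ≪≫
    (asIso (Dual3.bcMap adj adj' e (BCAdj.adjQ g (hR1 g) (hL g)) (BCAdj.adjQ g' (hR1 g') (hL g')) O (hξ _))).symm)⟩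

variable {X Y Z : Scheme.{u}}

/-- the twist by a perfect relative dualizing complex is invertible -/
theorem exists_inverse (p : Z ⟶ X) [IsProper p] [Flat p] [LocallyOfFinitePresentation p] [CompactSpace X]
    [QuasiSeparatedSpace X] [DCoh.HasRpush p] (hR : DCoh.RpushPreservesQCoh p)
    {R : DCoh.DQCoh X ⥤ DCoh.DQCoh Z} (adj : DCoh.RpushQ p hR ⊣ R)
    (O : DCoh.DQCoh X) (hO : Nonempty (O.obj ≅ DCoh.inD X (Coh.structureModule X)))
    (E : CochainComplex Z.Modules ℤ) (hE : DCoh.IsKFlat E) (eE : DCoh.toD Z E ≅ (R.obj O).obj)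
    (hp : DCoh.IsPerfect (DCoh.toD Z E)) [DCoh.HasLTensorCx E] :
    ∃ (E' : CochainComplex Z.Modules ℤ) (_ : DCoh.HasLTensorCx E'), DCoh.IsQCohD (DCoh.toD Z E') ∧
      Nonempty (DCoh.LTensorCx E' ⋙ DCoh.LTensorCx E ≅ 𝟭 (DCoh.D Z)) ∧
      Nonempty (DCoh.LTensorCx E ⋙ DCoh.LTensorCx E' ≅ 𝟭 (DCoh.D Z)) := by
  haveI := fun (F : CochainComplex Z.Modules ℤ) => KFlat.hasLTensorCx F
  haveI := fun (F : CochainComplex Z.Modules ℤ) => RHom.hasRSheafHom F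
  obtain ⟨E', hE', ⟨d⟩⟩ := Groth.L07.BvdB.DualHom.exists_kflat_rep
    ((DCoh.RSheafHom E).obj (DCoh.inD Z (Coh.structureModule Z)))
  obtain ⟨hE'p, ⟨ρ⟩⟩ := Groth.L10.DualNat.nonempty_RSheafHom_iso_LT E hp E' ⟨d⟩
  -- the unit `O ⟶ RHom(E, E)`
  obtain ⟨c⟩ := Groth.Lead.RelPCTest.nonempty_LTensorCx_unit E hE
  obtain ⟨-, h⟩ := Groth.Agent.S3619.result Z X p hR R adj O hO
  haveI := h E ⟨eE⟩ c
  let u : DCoh.inD Z (Coh.structureModule Z) ≅ (DCoh.LTensorCx E').obj (DCoh.toD Z E) :=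
    asIso ((DCoh.RSheafHomAdj E).homEquiv (DCoh.inD Z (Coh.structureModule Z)) (DCoh.toD Z E) c.hom) ≪≫ ρ.app _
  obtain ⟨cm⟩ := Groth.Lead.FlatPerfect.nonempty_LTensorCx_comm E E' hE'
  have hid : ∀ A B : CochainComplex Z.Modules ℤ, DCoh.IsKFlat A → DCoh.IsKFlat B →
      (DCoh.inD Z (Coh.structureModule Z) ≅ (DCoh.LTensorCx B).obj (DCoh.toD Z A)) →
      Nonempty (DCoh.LTensorCx A ⋙ DCoh.LTensorCx B ≅ 𝟭 (DCoh.D Z)) := by
    intro A B hA hB v
    obtain ⟨as⟩ := Groth.L10.FMBC.nonempty_assocD A B hA hB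
    obtain ⟨i⟩ := Groth.L10.FMDiag.nonempty_LTensorCx_O0 (X := Z)
    obtain ⟨t⟩ := RHom.nonempty_lt_iso (((Assoc.allIso B hB).app A).symm ≪≫ v.symm ≪≫
      (DerivedCategory.singleFunctorIsoCompQ Z.Modules 0).app (Coh.structureModule Z))
    exact ⟨as ≪≫ t ≪≫ i⟩
  exact ⟨E', inferInstance, PCQCoh.isQCohD_of_perfect hE'p, hid E' E hE' hE (u ≪≫ cm.symm), hid E E' hE hE' u⟩

variable (p : Z ⟶ X) (q : Z ⟶ Y)

set_option maxHeartbeats 1600000 in
/-- the left adjoint of a kernel functor with perfect kernel -/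
theorem nonempty_adj_left [CompactSpace X] [QuasiSeparatedSpace X] [QuasiCompact q] [QuasiSeparated q]
    [IsProper p] [Flat p] [LocallyOfFinitePresentation p]
    (K : CochainComplex Z.Modules ℤ) (hK : DCoh.IsPerfect (DCoh.toD _ K))
    [DCoh.HasLpull p] [DCoh.HasLTensorCx K] [DCoh.HasRpush q] [DCoh.HasRSheafHom K] [DCoh.HasRpush p]
    (hR : DCoh.RpushPreservesQCoh p) {R : DCoh.DQCoh X ⥤ DCoh.DQCoh Z} (adj : DCoh.RpushQ p hR ⊣ R)
    (O : DCoh.DQCoh X) (hO : Nonempty (O.obj ≅ DCoh.inD X (Coh.structureModule X)))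
    (W : CochainComplex Z.Modules ℤ) (hW : Nonempty (DCoh.toD Z W ≅ (R.obj O).obj))
    (hWp : DCoh.IsPerfect (DCoh.toD Z W)) [DCoh.HasLTensorCx W]
    (K' : CochainComplex Z.Modules ℤ)
    (hK' : Nonempty (DCoh.toD Z K' ≅
      (DCoh.LTensorCx W).obj ((DCoh.RSheafHom K).obj (DCoh.inD Z (Coh.structureModule Z)))))
    [DCoh.HasLpull q] [DCoh.HasLTensorCx K']
    (h : ∀ M : DCoh.D X, DCoh.IsQCohD M →
      DCoh.IsQCohD ((DCoh.Lpull p ⋙ DCoh.LTensorCx K ⋙ DCoh.Rpush q).obj M))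
    (h' : ∀ N : DCoh.D Y, DCoh.IsQCohD N →
      DCoh.IsQCohD ((DCoh.Lpull q ⋙ DCoh.LTensorCx K' ⋙ DCoh.Rpush p).obj N)) :
    Nonempty (ObjectProperty.lift (DCoh.IsQCohD (X := X))
        (ObjectProperty.ι (DCoh.IsQCohD (X := Y)) ⋙ DCoh.Lpull q ⋙ DCoh.LTensorCx K' ⋙ DCoh.Rpush p)
        (fun N => h' N.obj N.property) ⊣
      ObjectProperty.lift (DCoh.IsQCohD (X := Y))
        (ObjectProperty.ι (DCoh.IsQCohD (X := X)) ⋙ DCoh.Lpull p ⋙ DCoh.LTensorCx K ⋙ DCoh.Rpush q)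
        (fun M => h M.obj M.property)) := by
  haveI := fun {V : Scheme.{u}} (E : CochainComplex V.Modules ℤ) => KFlat.hasLTensorCx E
  haveI := fun {V : Scheme.{u}} (E : CochainComplex V.Modules ℤ) => RHom.hasRSheafHom E
  haveI : CompactSpace Z := QuasiCompact.compactSpace_of_compactSpace p
  haveI : QuasiSeparatedSpace Z := quasiSeparatedSpace_of_quasiSeparated p
  let qP := DCoh.IsQCohD (X := Z)
  -- kernel and twist
  obtain ⟨K₀, hK₀, ⟨k⟩⟩ := Groth.L07.BvdB.DualHom.exists_kflat_rep (DCoh.toD Z K)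
  have hK₀p : DCoh.IsPerfect (DCoh.toD Z K₀) := isPerfect_of_iso k.symm hK
  obtain ⟨ck⟩ := RHom.nonempty_lt_iso k
  obtain ⟨D, hD, ⟨d⟩⟩ := Groth.L07.BvdB.DualHom.exists_kflat_rep
    ((DCoh.RSheafHom K).obj (DCoh.inD Z (Coh.structureModule Z)))
  obtain ⟨hDp, -⟩ := Groth.L10.DualNat.nonempty_RSheafHom_iso_LT K hK D ⟨d⟩
  obtain ⟨sk⟩ := EvalMain.nonempty_RSheafHom_iso k
  obtain ⟨o⟩ := EvalMain.nonempty_O0_iso (X := Z)
  obtain ⟨σ⟩ := Groth.L10.DualNat.nonempty_LT_iso_RHom K₀ D hK₀ hK₀p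
    ⟨d ≪≫ (DCoh.RSheafHom K).mapIso o.symm ≪≫ (sk.app _).symm⟩
  obtain ⟨w0⟩ := hW
  obtain ⟨E, hE, ⟨eE⟩⟩ := Groth.L07.BvdB.DualHom.exists_kflat_rep (DCoh.toD Z W)
  obtain ⟨cE⟩ := RHom.nonempty_lt_iso eE
  obtain ⟨E', _, hE'q, ⟨i₁⟩, ⟨i₂⟩⟩ := exists_inverse p hR adj O hO E hE (eE ≪≫ w0) (isPerfect_of_iso eE.symm hWp)
  obtain ⟨as⟩ := Groth.L10.FMBC.nonempty_assocD D E hD hE
  obtain ⟨k'⟩ := hK'
  obtain ⟨cK'⟩ := RHom.nonempty_lt_iso (k' ≪≫ (DCoh.LTensorCx W).mapIso d.symm ≪≫ (cE.app _).symm ≪≫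
    (Assoc.allIso E hE).app D)
  let e' : DCoh.LTensorCx K' ≅ DCoh.LTensorCx D ⋙ DCoh.LTensorCx E := cK' ≪≫ as.symm
  have hperf : ∀ P : DCoh.DQCoh Z, DCoh.IsPerfect P.obj → DCoh.IsPerfect ((DCoh.RpushQ p hR).obj P).obj :=
    fun P hP => isPerfect_Rpush p hP
  obtain ⟨T⟩ := AdjTensor.nonempty_iso p adj hperf O hO E ⟨eE ≪≫ w0⟩
  -- adjunctions
  let F := DCoh.Lpull q ⋙ DCoh.LTensorCx D ⋙ DCoh.LTensorCx E
  let G := DCoh.LTensorCx E' ⋙ DCoh.LTensorCx K ⋙ DCoh.Rpush q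
  let twist : DCoh.D Z ≌ DCoh.D Z := CategoryTheory.Equivalence.mk (DCoh.LTensorCx E) (DCoh.LTensorCx E') i₂.symm i₁
  let adj₀ : F ⊣ G := ((Groth.L29.BC.adj q).comp
    (((DCoh.RSheafHomAdj D).ofNatIsoRight σ.symm).comp twist.toAdjunction)).ofNatIsoRight
      (Functor.isoWhiskerRight (Functor.isoWhiskerLeft (DCoh.LTensorCx E') ck) (DCoh.Rpush q))
  have hEq : DCoh.IsQCohD (DCoh.toD Z E) := PCQCoh.isQCohD_of_perfect (isPerfect_of_iso eE.symm hWp)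
  have hDq : DCoh.IsQCohD (DCoh.toD Z D) := PCQCoh.isQCohD_of_perfect hDp
  have hKq : DCoh.IsQCohD (DCoh.toD Z K) := PCQCoh.isQCohD_of_perfect hK
  obtain ⟨a₁⟩ := Groth.L10.FMAdj.nonempty_restrict adj₀ (DCoh.IsQCohD (X := Y)) qP
    (fun N hN => isQCohD_LTensorCx E hEq (isQCohD_LTensorCx D hDq (isQCohD_Lpull q hN)))
    (fun M hM => RpushQC.isQCohD_Rpush q _ (isQCohD_LTensorCx K hKq (isQCohD_LTensorCx E' hE'q hM)))
  let a₂ := a₁.comp adj
  refine ⟨(a₂.ofNatIsoLeft ?_).ofNatIsoRight ?_⟩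
  · let e : ObjectProperty.ι (DCoh.IsQCohD (X := Y)) ⋙ DCoh.Lpull q ⋙ DCoh.LTensorCx D ⋙ DCoh.LTensorCx E ⋙
        DCoh.Rpush p ≅
        ObjectProperty.ι (DCoh.IsQCohD (X := Y)) ⋙ DCoh.Lpull q ⋙ DCoh.LTensorCx K' ⋙ DCoh.Rpush p :=
      Functor.isoWhiskerLeft (ObjectProperty.ι (DCoh.IsQCohD (X := Y)) ⋙ DCoh.Lpull q)
        (Functor.isoWhiskerRight e'.symm (DCoh.Rpush p))
    exact NatIso.ofComponents (fun N => ObjectProperty.isoMk _ (e.app N))
      (fun f => by apply ObjectProperty.hom_ext; exact e.hom.naturality f)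
  · let e : R ⋙ qP.ι ⋙ DCoh.LTensorCx E' ⋙ DCoh.LTensorCx K ⋙ DCoh.Rpush q ≅
        ObjectProperty.ι (DCoh.IsQCohD (X := X)) ⋙ DCoh.Lpull p ⋙ DCoh.LTensorCx K ⋙ DCoh.Rpush q :=
      Functor.isoWhiskerRight T (DCoh.LTensorCx E' ⋙ DCoh.LTensorCx K ⋙ DCoh.Rpush q) ≪≫
        Functor.isoWhiskerLeft (ObjectProperty.ι (DCoh.IsQCohD (X := X)) ⋙ DCoh.Lpull p)
          (Functor.isoWhiskerRight i₂ (DCoh.LTensorCx K ⋙ DCoh.Rpush q) ≪≫ Functor.leftUnitor _)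
    exact NatIso.ofComponents (fun M => ObjectProperty.isoMk _ (e.app M))
      (fun f => by apply ObjectProperty.hom_ext; exact e.hom.naturality f)

/-- restriction of an adjunction between quasi-coherent objects to perfect objects -/
theorem nonempty_restrictPerf {F : DCoh.D X ⥤ DCoh.D Y} {G : DCoh.D Y ⥤ DCoh.D X}
    (hF : ∀ M : DCoh.DQCoh X, DCoh.IsQCohD (F.obj M.obj)) (hG : ∀ N : DCoh.DQCoh Y, DCoh.IsQCohD (G.obj N.obj))
    (adj : ObjectProperty.lift (DCoh.IsQCohD (X := Y)) (ObjectProperty.ι (DCoh.IsQCohD (X := X)) ⋙ F) hF ⊣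
      ObjectProperty.lift (DCoh.IsQCohD (X := X)) (ObjectProperty.ι (DCoh.IsQCohD (X := Y)) ⋙ G) hG)
    (hF' : ∀ M, SGA6.perfP X M → SGA6.perfP Y (F.obj M)) (hG' : ∀ N, SGA6.perfP Y N → SGA6.perfP X (G.obj N)) :
    Nonempty (ObjectProperty.lift (SGA6.perfP Y) (ObjectProperty.ι (SGA6.perfP X) ⋙ F) (fun M => hF' M.obj M.property) ⊣
      ObjectProperty.lift (SGA6.perfP X) (ObjectProperty.ι (SGA6.perfP Y) ⋙ G) (fun N => hG' N.obj N.property)) :=
  ⟨adj.restrictFullyFaithful (ObjectProperty.fullyFaithfulιOfLE (fun _ h => PCQCoh.isQCohD_of_perfect h))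
    (ObjectProperty.fullyFaithfulιOfLE (fun _ h => PCQCoh.isQCohD_of_perfect h))
    (NatIso.ofComponents (fun M => ObjectProperty.isoMk _ (Iso.refl _))
      (fun f => by apply ObjectProperty.hom_ext; exact (Category.comp_id _).trans (Category.id_comp _).symm))
    (NatIso.ofComponents (fun M => ObjectProperty.isoMk _ (Iso.refl _))
      (fun f => by apply ObjectProperty.hom_ext; exact (Category.comp_id _).trans (Category.id_comp _).symm))⟩

end Groth.L29.FMAdj
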